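import Cfsg.Agent.PSLClass.Frame
import Cfsg.Agent.FGSB.FrobeniusCount

/-!
# Groups with the same order and numbers of elements of equal order as `PGL₂(q)`
-/

set_option autoImplicit false
set_option linter.unusedSectionVars false
set_option linter.style.haveILetI false

namespace CfsgLib.NsePGL2

open Subgroup

variable {G : Type*} [Group G] [Finite G] {p f q : ℕ}

/-- The number of elements of a given order. -/
noncomputable abbrev cnt (G : Type*) [Group G] (n : ℕ) : ℕ := Nat.card {g : G // orderOf g = n}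

theorem cnt_one : cnt G 1 = 1 :=
  Nat.card_eq_one_iff_unique.2 ⟨⟨fun a b => Subtype.ext
    ((orderOf_eq_one_iff.1 a.2).trans (orderOf_eq_one_iff.1 b.2).symm)⟩, ⟨⟨1, orderOf_one⟩⟩⟩

theorem card_filter_eq_sum (P : ℕ → Prop) [DecidablePred P] :
    Nat.card {x : G // P (orderOf x)} = ∑ k ∈ ((Nat.card G).divisors.filter P), cnt G k := by
  classical
  haveI := Fintype.ofFinite G
  rw [Nat.card_eq_fintype_card, Fintype.card_subtype,
    Finset.card_eq_sum_card_fiberwise (f := orderOf) (t := (Nat.card G).divisors.filter P) (fun x hx =>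
      Finset.mem_filter.2 ⟨Nat.mem_divisors.2 ⟨orderOf_dvd_natCard x, Nat.card_pos.ne'⟩, (Finset.mem_filter.1 hx).2⟩)]
  refine Finset.sum_congr rfl fun k hk => ?_
  rw [cnt, Nat.card_eq_fintype_card, Fintype.card_subtype, Finset.filter_filter]
  congr 1
  refine Finset.filter_congr fun x _ => ⟨fun h => h.2, fun h => ⟨h ▸ (Finset.mem_filter.1 hk).2, h⟩⟩

/-- The counting data shared by `PGL₂(q)` and its analogues. -/
structure Data (G : Type*) [Group G] (p f q : ℕ) : Prop where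
  hp : p.Prime
  hp2 : p ≠ 2
  hf : 0 < f
  hq : q = p ^ f
  card : Nat.card G = q * (q ^ 2 - 1)
  ord : ∀ x : G, p ∣ orderOf x → orderOf x = p
  cntp : cnt G p = q ^ 2 - 1
  cnt2 : cnt G 2 = q ^ 2

/-- Elements centralizing an element of order `p` have order dividing `p`. -/
theorem pow_eq_one_of_comm {x c : G} (ord : ∀ x : G, p ∣ orderOf x → orderOf x = p) (hp : p.Prime)
    (hx : orderOf x = p) (hc : Commute c x) : c ^ p = 1 := by
  by_cases hd : p ∣ orderOf c
  · rw [← ord c hd, pow_orderOf_eq_one]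
  have ho : orderOf (c * x) = orderOf c * p := by
    rw [hc.orderOf_mul_eq_mul_orderOf_of_coprime (by rw [hx]; exact ((hp.coprime_iff_not_dvd).2 hd).symm), hx]
  have h1 := ord (c * x) (ho ▸ dvd_mul_left p _)
  rw [ho] at h1
  rw [orderOf_eq_one_iff.1 ((mul_eq_right₀ hp.ne_zero).1 h1), one_pow]

theorem Data.card_C (D : Data G p f q) {x : G} (hx : orderOf x = p) : Nat.card (centralizer ({x} : Set G)) = q := by
  haveI : Fact p.Prime := ⟨D.hp⟩
  set C := centralizer ({x} : Set G)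
  have hP : IsPGroup p C := fun c => ⟨1, Subtype.ext (by
    rw [pow_one, Subgroup.coe_pow, Subgroup.coe_one]
    exact pow_eq_one_of_comm D.ord D.hp hx (mem_centralizer_singleton_iff.1 c.2))⟩
  obtain ⟨i, hi⟩ := IsPGroup.iff_card.1 hP
  have hpq : p ∣ q := D.hq ▸ dvd_pow_self p D.hf.ne'
  have hq1 : 1 < q := D.hq ▸ Nat.one_lt_pow D.hf.ne' D.hp.one_lt
  have hna : ¬ p ∣ q ^ 2 - 1 := fun h => by
    have h2 : p ∣ q ^ 2 := hpq.trans (dvd_pow_self q two_ne_zero)
    have h1 := Nat.dvd_sub h2 h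
    rw [Nat.sub_sub_self (Nat.one_le_pow _ _ (by omega))] at h1
    exact D.hp.ne_one (Nat.dvd_one.1 h1)
  have hmul := C.card_mul_index
  rw [hi, D.card] at hmul
  have hdvd : p ^ i ∣ q :=
    (((Nat.Prime.coprime_iff_not_dvd D.hp).2 hna).pow_left i).dvd_of_dvd_mul_right (hmul ▸ dvd_mul_right _ _)
  have hle : C.index ≤ q ^ 2 - 1 := by
    rw [← D.cntp, index_eq_card]
    refine Nat.card_le_card_of_injective (fun k : G ⧸ C => Quotient.liftOn' k
      (fun g => (⟨g * x * g⁻¹, by rw [← MulAut.conj_apply, MulEquiv.orderOf_eq, hx]⟩ : {g : G // orderOf g = p}))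
      (fun g g' e => by
        rw [QuotientGroup.leftRel_apply, mem_centralizer_singleton_iff] at e
        refine Subtype.ext ?_
        calc g * x * g⁻¹ = g * (x * (g⁻¹ * g')) * g'⁻¹ := by group
          _ = g * (g⁻¹ * g' * x) * g'⁻¹ := by rw [e]
          _ = g' * x * g'⁻¹ := by group)) ?_
    intro k k' e
    induction k using QuotientGroup.induction_on with
    | H g =>
      induction k' using QuotientGroup.induction_on with
      | H g' =>
        have e' : g * x * g⁻¹ = g' * x * g'⁻¹ := congrArg Subtype.val e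
        rw [QuotientGroup.eq, mem_centralizer_singleton_iff]
        calc g⁻¹ * g' * x = g⁻¹ * (g' * x * g'⁻¹) * g' := by group
          _ = g⁻¹ * (g * x * g⁻¹) * g' := by rw [e']
          _ = x * (g⁻¹ * g') := by group
  rw [hi]
  refine le_antisymm (Nat.le_of_dvd (by omega) hdvd) ?_
  have h0 : 0 < q ^ 2 - 1 := by have := Nat.one_lt_pow two_ne_zero hq1; omega
  exact Nat.le_of_mul_le_mul_right (hmul ▸ Nat.mul_le_mul_left _ hle) h0

theorem frame_of (hp : p.Prime) (hp2 : p ≠ 2) (hf : 0 < f) (hq : q = p ^ f) (card : Nat.card G = q * (q ^ 2 - 1))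
    (ord : ∀ x : G, p ∣ orderOf x → orderOf x = p)
    (hC : ∀ x : G, orderOf x = p → Nat.card (centralizer ({x} : Set G)) = q) :
    PSLClass.Frame G p f q (q ^ 2 - 1) 1 := by
  refine ⟨hp, hf, hq, Or.inl rfl, fun h => absurd h hp2, one_mul _, ?_, card, fun k hk n hkn => hC k (ord k ?_)⟩
  · intro h
    have h2 : p ∣ q ^ 2 := (hq ▸ dvd_pow_self p hf.ne' : p ∣ q).trans (dvd_pow_self q two_ne_zero)
    have h1 := Nat.dvd_sub h2 h
    rw [Nat.sub_sub_self (Nat.one_le_pow _ _ (hq ▸ pow_pos hp.pos f))] at h1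
    exact hp.ne_one (Nat.dvd_one.1 h1)
  · obtain ⟨i, -, hi⟩ := (Nat.dvd_prime_pow hp).1 (orderOf_dvd_of_pow_eq_one hkn)
    have hi0 : i ≠ 0 := by rintro rfl; rw [pow_zero, orderOf_eq_one_iff] at hi; exact hk hi
    exact hi ▸ dvd_pow_self p hi0

theorem Data.frame (D : Data G p f q) : PSLClass.Frame G p f q (q ^ 2 - 1) 1 :=
  frame_of D.hp D.hp2 D.hf D.hq D.card D.ord fun _ hx => D.card_C hx

/-- The values of the counting function. -/
structure Values (G : Type*) [Group G] (q : ℕ) : Prop where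
  sq : q ^ 2 ∈ {c : ℕ | 0 < c ∧ ∃ n : ℕ, c = cnt G n}
  pel : q ^ 2 - 1 ∈ {c : ℕ | 0 < c ∧ ∃ n : ℕ, c = cnt G n}
  cases : ∀ c ∈ {c : ℕ | 0 < c ∧ ∃ n : ℕ, c = cnt G n}, c = 1 ∨ c = q ^ 2 - 1 ∨ q ∣ c

theorem totient_dvd_cnt (k : ℕ) : k.totient ∣ cnt G k := by
  classical
  haveI := Fintype.ofFinite G
  have h := FrobCount.dvd_card_of_orderOf (G := G) (fun o => o = k) k.totient fun o ho => ho ▸ dvd_rfl
  rw [cnt, Nat.card_eq_fintype_card, Fintype.card_subtype]
  convert h

/-- The counting data from the values alone. -/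
theorem data_of_values (hp : p.Prime) (hp2 : p ≠ 2) (hf : 0 < f) (hq : q = p ^ f)
    (card : Nat.card G = q * (q ^ 2 - 1)) (V : Values G q) : Data G p f q := by
  classical
  haveI : Fact p.Prime := ⟨hp⟩
  have hq3 : 3 ≤ q := by
    have h1 : p ≤ q := hq ▸ Nat.le_self_pow hf.ne' p
    have := hp.two_le
    omega
  have hodd : Odd q := hq ▸ (hp.odd_of_ne_two hp2).pow
  have hodd2 : Odd (q ^ 2) := hodd.pow
  have hq2 : q * 3 ≤ q ^ 2 := by rw [pow_two]; exact Nat.mul_le_mul_left q hq3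
  set a := q ^ 2 - 1 with ha
  have hqa : ¬ q ∣ a := fun h => by
    have h1 := Nat.dvd_sub (dvd_pow_self q two_ne_zero) h
    rw [Nat.sub_sub_self (by omega)] at h1
    have := Nat.dvd_one.1 h1
    omega
  have hd2 : ∀ k : ℕ, Odd (cnt G k) → k ≤ 2 := fun k hk => by
    by_contra hlt
    exact Nat.not_even_iff_odd.2 hk
      ((Nat.totient_even (by omega)).two_dvd.trans (totient_dvd_cnt k) |> even_iff_two_dvd.2)
  obtain ⟨-, n₂, hn₂⟩ := V.sq
  have hn₂' : n₂ = 2 := by
    have h1 := hd2 n₂ (hn₂ ▸ hodd2)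
    interval_cases n₂
    · haveI : IsEmpty {g : G // orderOf g = 0} := ⟨fun x => (orderOf_pos x.1).ne' x.2⟩
      have : cnt G 0 = 0 := Nat.card_of_isEmpty
      omega
    · rw [cnt_one] at hn₂; omega
    · rfl
  subst hn₂'
  have hcnt2 : cnt G 2 = q ^ 2 := hn₂.symm
  have hcase : ∀ k, k ≠ 1 → cnt G k = a ∨ q ∣ cnt G k := by
    intro k hk
    rcases Nat.eq_zero_or_pos (cnt G k) with h0 | h0
    · exact Or.inr (h0 ▸ dvd_zero q)
    rcases V.cases _ ⟨h0, k, rfl⟩ with h | h | h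
    · have h1 := hd2 k (h ▸ odd_one)
      interval_cases k
      · haveI : IsEmpty {g : G // orderOf g = 0} := ⟨fun x => (orderOf_pos x.1).ne' x.2⟩
        exact Or.inr (by rw [show cnt G 0 = 0 from Nat.card_of_isEmpty]; exact dvd_zero q)
      · exact absurd rfl hk
      · exact Or.inr (hcnt2 ▸ dvd_pow_self q two_ne_zero)
    · exact Or.inl h
    · exact Or.inr h
  obtain ⟨-, k₀, hk₀⟩ := V.pel
  set Dv := (Nat.card G).divisors
  set T := Dv.filter fun k => cnt G k = a
  have hsum : ∑ k ∈ Dv, cnt G k = Nat.card G := by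
    have h := card_filter_eq_sum (G := G) (fun _ => True)
    rw [Finset.filter_true_of_mem fun _ _ => trivial] at h
    rw [← h]
    exact Nat.card_congr (Equiv.subtypeUnivEquiv fun _ => trivial)
  have ha1 : 1 < a := by omega
  have hsplit : ∑ k ∈ Dv, cnt G k = T.card * a + ∑ k ∈ Dv.filter (fun k => ¬ cnt G k = a), cnt G k := by
    rw [← Finset.sum_filter_add_sum_filter_not Dv (fun k => cnt G k = a)]
    congr 1
    exact Finset.sum_const_nat fun k hk => (Finset.mem_filter.1 hk).2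
  have h1mem : (1 : ℕ) ∈ Dv.filter (fun k => ¬ cnt G k = a) :=
    Finset.mem_filter.2 ⟨Nat.mem_divisors.2 ⟨one_dvd _, Nat.card_pos.ne'⟩, by rw [cnt_one]; omega⟩
  rw [← Finset.add_sum_erase _ _ h1mem, cnt_one] at hsplit
  obtain ⟨S, hS⟩ : q ∣ ∑ k ∈ (Dv.filter (fun k => ¬ cnt G k = a)).erase 1, cnt G k :=
    Finset.dvd_sum fun k hk => by
      obtain ⟨hk1, hk⟩ := Finset.mem_erase.1 hk
      exact (hcase k hk1).resolve_left (Finset.mem_filter.1 hk).2
  rw [hS, hsum, card] at hsplit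
  have hTlt : T.card < q := by
    by_contra hle
    have := Nat.mul_le_mul_right a (not_lt.1 hle)
    omega
  have hT1 : T.card = 1 := by
    have hz : (q : ℤ) ∣ 1 - T.card := by
      refine ⟨(a : ℤ) - S - T.card * q, ?_⟩
      have h1 : (q : ℤ) * a = T.card * a + (1 + q * S) := by exact_mod_cast hsplit
      have h2 : (a : ℤ) = (q : ℤ) ^ 2 - 1 := by
        have : a + 1 = q ^ 2 := by omega
        have h3 : ((a + 1 : ℕ) : ℤ) = ((q ^ 2 : ℕ) : ℤ) := by rw [this]
        push_cast at h3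
        linarith
      linear_combination -h1 - (T.card : ℤ) * h2
    have h3 := Int.eq_zero_of_abs_lt_dvd hz (by rw [abs_lt]; constructor <;> omega)
    omega
  have hmemT : ∀ k, cnt G k = a → k ∈ T := fun k hk => by
    obtain ⟨⟨g, hg⟩⟩ : Nonempty {g : G // orderOf g = k} :=
      (Nat.card_pos_iff.1 (show 0 < cnt G k by omega)).1
    exact Finset.mem_filter.2 ⟨Nat.mem_divisors.2 ⟨hg ▸ orderOf_dvd_natCard g, Nat.card_pos.ne'⟩, hk⟩
  have hTeq : ∀ k k', cnt G k = a → cnt G k' = a → k = k' := fun k k' hk hk' =>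
    Finset.card_le_one.1 hT1.le k (hmemT k hk) k' (hmemT k' hk')
  have hcop : Nat.Coprime a q := by
    rw [hq]
    refine (((Nat.Prime.coprime_iff_not_dvd hp).2 fun h => ?_).pow_left f).symm
    have h1 := Nat.dvd_sub (((hq ▸ dvd_pow_self p hf.ne' : p ∣ q)).trans (dvd_pow_self q two_ne_zero)) h
    rw [Nat.sub_sub_self (by omega)] at h1
    exact hp.ne_one (Nat.dvd_one.1 h1)
  have hdp : q ∣ Nat.card {x : G // x ^ q = 1} :=
    CfsgLib.Char.dvd_card_pow_eq_one (by rw [card, mul_comm]) hcop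
  have hqq : Nat.card {x : G // x ^ q = 1} = ∑ k ∈ Dv.filter (fun k => k ∣ q), cnt G k := by
    rw [← card_filter_eq_sum]
    exact Nat.card_congr (Equiv.subtypeEquivRight fun x => orderOf_dvd_iff_pow_eq_one.symm)
  have hex : ∃ k, k ∣ q ∧ cnt G k = a := by
    by_contra hno
    push Not at hno
    have h1mem' : (1 : ℕ) ∈ Dv.filter (fun k => k ∣ q) :=
      Finset.mem_filter.2 ⟨Nat.mem_divisors.2 ⟨one_dvd _, Nat.card_pos.ne'⟩, one_dvd q⟩
    rw [hqq, ← Finset.add_sum_erase _ _ h1mem', cnt_one] at hdp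
    have h2 : q ∣ ∑ k ∈ (Dv.filter (fun k => k ∣ q)).erase 1, cnt G k := Finset.dvd_sum fun k hk => by
      obtain ⟨hk1, hk⟩ := Finset.mem_erase.1 hk
      exact (hcase k hk1).resolve_left (hno k (Finset.mem_filter.1 hk).2)
    have := Nat.dvd_one.1 ((Nat.dvd_add_left h2).1 hdp)
    omega
  obtain ⟨k, hkq, hka⟩ := hex
  obtain ⟨i, -, rfl⟩ := (Nat.dvd_prime_pow hp).1 (hq ▸ hkq)
  have hi : i = 1 := by
    by_contra hne
    rcases Nat.lt_or_gt_of_ne hne with h | h
    · obtain rfl : i = 0 := by omega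
      rw [pow_zero, cnt_one] at hka
      omega
    · have h1 := totient_dvd_cnt (G := G) (p ^ i)
      rw [Nat.totient_prime_pow hp (by omega), hka] at h1
      have h2 : p ∣ a := ((dvd_pow_self p (by omega : i - 1 ≠ 0)).trans (dvd_mul_right _ _)).trans h1
      exact hp.ne_one (Nat.eq_one_of_dvd_coprimes hcop h2 (hq ▸ dvd_pow_self p hf.ne'))
  subst hi
  rw [pow_one] at hka
  refine ⟨hp, hp2, hf, hq, card, fun x hx => ?_, hka, hcnt2⟩
  by_contra hne
  have hb : a ∣ Nat.card {x : G // p ∣ orderOf x} :=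
    FrobCount.dvd_card_multiple hp.ne_zero (card ▸ dvd_mul_left a q)
      (hcop.coprime_dvd_right (hq ▸ dvd_pow_self p hf.ne'))
  have hDlt : Nat.card {x : G // p ∣ orderOf x} < q * a := by
    rw [← card]
    exact Finite.card_subtype_lt (x := (1 : G)) (by rw [orderOf_one]; exact fun h => hp.ne_one (Nat.dvd_one.1 h))
  rw [card_filter_eq_sum (fun k => p ∣ k)] at hb hDlt
  have hpmem : p ∈ (Nat.card G).divisors.filter (fun k => p ∣ k) :=
    Finset.mem_filter.2 ⟨(Finset.mem_filter.1 (hmemT p hka)).1, dvd_rfl⟩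
  rw [← Finset.add_sum_erase _ _ hpmem, hka] at hb hDlt
  set R := ((Nat.card G).divisors.filter (fun k => p ∣ k)).erase p
  have hR : q ∣ ∑ k ∈ R, cnt G k := Finset.dvd_sum fun k hk => by
    obtain ⟨hk1, hk⟩ := Finset.mem_erase.1 hk
    exact (hcase k (fun e => hp.ne_one (Nat.dvd_one.1 (e ▸ (Finset.mem_filter.1 hk).2)))).resolve_left
      fun e => hk1 (hTeq k p e hka)
  have hRa : a ∣ ∑ k ∈ R, cnt G k := (Nat.dvd_add_right dvd_rfl).1 hb
  have hR0 : ∑ k ∈ R, cnt G k = 0 := by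
    by_contra h0
    have := Nat.le_of_dvd (Nat.pos_of_ne_zero h0) (hcop.symm.mul_dvd_of_dvd_of_dvd hR hRa)
    omega
  have hmem : orderOf x ∈ R :=
    Finset.mem_erase.2 ⟨hne, Finset.mem_filter.2 ⟨Nat.mem_divisors.2 ⟨orderOf_dvd_natCard x, Nat.card_pos.ne'⟩, hx⟩⟩
  have h0 := Finset.sum_eq_zero_iff.1 hR0 _ hmem
  haveI : Nonempty {g : G // orderOf g = orderOf x} := ⟨⟨x, rfl⟩⟩
  exact Nat.card_pos.ne' h0

end CfsgLib.NsePGL2
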