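import Cfsg.Agent.NsePGL2.Count
import Cfsg.Agent.Classical.SylowTwoDim
import Cfsg.Agent.Classical.PSLTwo
import Cfsg.Agent.SmallSimple.M11Nse

/-!
# The numbers of elements of each order in `PGL₂(q)`
-/

set_option autoImplicit false
set_option linter.unusedSectionVars false
set_option linter.style.haveILetI false

namespace CfsgLib.NsePGL2

open Subgroup Matrix OnePoint
open CfsgLib.Dickson (PGL2)
open CfsgLib.GL2C (GL2 gm gm_mul gm_injective)

variable {F : Type*} [Field F] [Fintype F] [DecidableEq F] {p f : ℕ} [Fact p.Prime] [CharP F p]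

theorem pgl_card (hq : Nat.card F = p ^ f) : Nat.card (PGL2 F) = p ^ f * ((p ^ f) ^ 2 - 1) := by
  rw [Linear.PSLTwo.card_pgl, hq]

theorem finite_pgl : Finite (PGL2 F) := inferInstanceAs (Finite (GL (Fin 2) F ⧸ center (GL (Fin 2) F)))

/-- The image of the upper unitriangular group. -/
noncomputable def unip (F : Type*) [Field F] : Multiplicative F →* PGL2 F :=
  ProjGenLinGroup.mk.comp (Linear.SylowDim.utHom F)

theorem unip_injective : Function.Injective (unip F) := by
  intro x y h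
  obtain ⟨u, hu⟩ := ProjGenLinGroup.mk_eq_mk_iff.1 h
  have e := congrArg gm hu
  have e00 := congrFun (congrFun e 0) 0
  have e01 := congrFun (congrFun e 0) 1
  simp [Linear.SylowDim.utHom, GL2C.gm_tri, Matrix.mul_apply, Fin.sum_univ_two, gm_mul,
    GeneralLinearGroup.coe_scalar] at e00 e01
  rw [e00] at e01
  simpa using e01

theorem exists_conj_unip [Finite (PGL2 F)] (hf : 0 < f) (hq : Nat.card F = p ^ f) {x : PGL2 F}
    (hx : ∃ i, x ^ p ^ i = 1) : ∃ (g : PGL2 F) (v : Multiplicative F), x = g * unip F v * g⁻¹ := by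
  classical
  have hp : p.Prime := Fact.out
  have hR : Nat.card (unip F).range = p ^ f := by
    rw [← hq, Nat.card_congr (MonoidHom.ofInjective (unip_injective (F := F))).toEquiv.symm]
    exact Nat.card_congr Multiplicative.toAdd
  obtain ⟨S₀⟩ : Nonempty (Sylow p (PGL2 F)) := inferInstance
  have hS₀ : Nat.card (S₀ : Subgroup (PGL2 F)) = p ^ f := by
    refine SmallSimple.card_sylow_eq S₀ (k := f) (m := (p ^ f) ^ 2 - 1) (pgl_card hq) fun h => ?_
    have h2 : p ∣ (p ^ f) ^ 2 := (dvd_pow_self p hf.ne').trans (dvd_pow_self _ two_ne_zero)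
    have h1 := Nat.dvd_sub h2 h
    rw [Nat.sub_sub_self (Nat.one_le_pow _ _ (pow_pos hp.pos f))] at h1
    exact hp.ne_one (Nat.dvd_one.1 h1)
  let S : Sylow p (PGL2 F) := Sylow.ofCard (unip F).range (by rw [hR, ← hS₀, S₀.card_eq_multiplicity])
  have hxp : IsPGroup p (zpowers x) := by
    obtain ⟨i, hi⟩ := hx
    obtain ⟨j, -, hj⟩ := (Nat.dvd_prime_pow hp).1 (orderOf_dvd_of_pow_eq_one hi)
    exact IsPGroup.of_card (by rw [Nat.card_zpowers, hj])
  obtain ⟨Q, hQ⟩ := hxp.exists_le_sylow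
  obtain ⟨g, hg⟩ := MulAction.exists_smul_eq (PGL2 F) S Q
  have hxQ : x ∈ ((g • S : Sylow p (PGL2 F)) : Subgroup (PGL2 F)) := hg.symm ▸ hQ (mem_zpowers x)
  rw [Sylow.coe_subgroup_smul, Subgroup.mem_pointwise_smul_iff_inv_smul_mem] at hxQ
  obtain ⟨v, hv⟩ := (show (MulAut.conj g)⁻¹ • x ∈ (unip F).range from hxQ)
  refine ⟨g, v, ?_⟩
  rw [hv, ← MulAut.conj_apply, MulAut.smul_def, MulAut.apply_inv_self]

theorem pow_prime_eq_one [Finite (PGL2 F)] (hf : 0 < f) (hq : Nat.card F = p ^ f) {x : PGL2 F}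
    (hx : ∃ i, x ^ p ^ i = 1) : x ^ p = 1 := by
  obtain ⟨g, v, rfl⟩ := exists_conj_unip hf hq hx
  rw [conj_pow, ← map_pow]
  have : v ^ p = 1 := by
    apply Multiplicative.toAdd.injective
    rw [toAdd_pow, toAdd_one, nsmul_eq_mul, CharP.cast_eq_zero, zero_mul]
  rw [this, map_one, mul_one, mul_inv_cancel]

theorem card_centralizer_unip [Finite (PGL2 F)] (hf : 0 < f) (hq : Nat.card F = p ^ f) {y : PGL2 F}
    (hy : orderOf y = p) : Nat.card (centralizer ({y} : Set (PGL2 F))) = p ^ f := by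
  classical
  have hp : p.Prime := Fact.out
  refine le_antisymm ?_ ?_
  · have hy1 : y ≠ 1 := fun e => hp.ne_one (hy ▸ orderOf_eq_one_iff.2 e)
    have hcardP : Nat.card (OnePoint F) = p ^ f + 1 := by
      rw [← hq]; exact Finite.card_option
    have hyp : IsPGroup p (zpowers y) := IsPGroup.of_card (n := 1) (by rw [Nat.card_zpowers, hy, pow_one])
    have hmod := hyp.card_modEq_card_fixedPoints (OnePoint F)
    rw [hcardP] at hmod
    have hmem : ∀ z : OnePoint F, z ∈ MulAction.fixedPoints (zpowers y) (OnePoint F) ↔ y • z = z := by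
      intro z
      rw [MulAction.mem_fixedPoints]
      refine ⟨fun h => h ⟨y, mem_zpowers y⟩, fun h => ?_⟩
      rintro ⟨t, i, rfl⟩
      exact (MulAction.mem_stabilizer_iff.1 (zpow_mem (MulAction.mem_stabilizer_iff.2 h) i) :)
    have hone : (1 : ℕ) ≡ Nat.card (MulAction.fixedPoints (zpowers y) (OnePoint F)) [MOD p] := by
      refine Nat.ModEq.trans ?_ hmod
      have := (Nat.modEq_zero_iff_dvd.2 (dvd_pow_self p hf.ne')).symm.add_right 1
      simpa using this
    obtain ⟨a, ha⟩ : ∃ a : OnePoint F, y • a = a := by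
      by_contra hno
      push Not at hno
      haveI : IsEmpty (MulAction.fixedPoints (zpowers y) (OnePoint F)) := ⟨fun z => hno z ((hmem z).1 z.2)⟩
      rw [Nat.card_of_isEmpty] at hone
      exact hp.ne_one (Nat.dvd_one.1 (Nat.modEq_zero_iff_dvd.1 hone))
    have huniq : ∀ z : OnePoint F, y • z = z → z = a := by
      intro z hz
      by_contra hne
      have hset : MulAction.fixedPoints (zpowers y) (OnePoint F) = {a, z} := by
        ext w
        rw [hmem]
        refine ⟨fun hw => ?_, ?_⟩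
        · by_contra hn
          simp only [Set.mem_insert_iff, Set.mem_singleton_iff, not_or] at hn
          exact hy1 (Dickson.eq_one_of_fix_three (Ne.symm hne) (Ne.symm hn.1) (Ne.symm hn.2) ha hz hw)
        · rintro (rfl | rfl) <;> assumption
      rw [hset, Nat.card_coe_set_eq, Set.ncard_pair (Ne.symm hne)] at hone
      have h1 := (Nat.modEq_iff_dvd' (by norm_num : 1 ≤ 2)).1 hone
      exact hp.ne_one (Nat.dvd_one.1 h1)
    obtain ⟨b, hb⟩ : ∃ b : OnePoint F, y • b ≠ b := by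
      by_contra hno
      push Not at hno
      exact hy1 (Dickson.eq_one_of_fix3 (hno _) (hno _) (hno _))
    have hba : b ≠ a := fun e => hb (e ▸ ha)
    have hfixa : ∀ c ∈ centralizer ({y} : Set (PGL2 F)), c • a = a := fun c hc => huniq _ (by
      rw [smul_smul, ← mem_centralizer_singleton_iff.1 hc, mul_smul, ha])
    let φ : ↥(centralizer ({y} : Set (PGL2 F))) → {z : OnePoint F // z ≠ a} := fun c =>
      ⟨(c : PGL2 F) • b, fun e => hba (smul_left_cancel (c : PGL2 F) (e.trans (hfixa _ c.2).symm))⟩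
    refine (Nat.card_le_card_of_injective φ ?_).trans_eq ?_
    · intro c c' e
      have e' : (c : PGL2 F) • b = (c' : PGL2 F) • b := congrArg Subtype.val e
      have hd : (c' : PGL2 F)⁻¹ * c ∈ centralizer ({y} : Set (PGL2 F)) := mul_mem (inv_mem c'.2) c.2
      have hdb : ((c' : PGL2 F)⁻¹ * c) • b = b := by rw [mul_smul, inv_smul_eq_iff, e']
      refine Subtype.ext (inv_mul_eq_one.1 (Dickson.eq_one_of_fix_three hba.symm (z := y • b) ?_ hb.symm
        (hfixa _ hd) hdb ?_)).symm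
      · exact fun h => hba (smul_left_cancel y (h.symm.trans ha.symm))
      · rw [smul_smul, mem_centralizer_singleton_iff.1 hd, mul_smul, hdb]
    · rw [Nat.card_eq_fintype_card, Fintype.card_subtype_compl, Fintype.card_subtype_eq,
        ← Nat.card_eq_fintype_card, hcardP, Nat.add_sub_cancel]
  · obtain ⟨g, v, hgv⟩ := exists_conj_unip hf hq (x := y) ⟨1, by rw [pow_one, ← hy, pow_orderOf_eq_one]⟩
    rw [← hq, ← Nat.card_congr (Multiplicative.toAdd : Multiplicative F ≃ F)]
    refine Nat.card_le_card_of_injective (fun w : Multiplicative F =>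
      (⟨g * unip F w * g⁻¹, mem_centralizer_singleton_iff.2 ?_⟩ : centralizer ({y} : Set (PGL2 F)))) ?_
    · rw [hgv]
      calc g * unip F w * g⁻¹ * (g * unip F v * g⁻¹) = g * (unip F (w * v)) * g⁻¹ := by rw [map_mul]; group
        _ = g * unip F v * g⁻¹ * (g * unip F w * g⁻¹) := by rw [mul_comm w v, map_mul]; group
    · intro w w' e
      exact unip_injective (mul_left_cancel (mul_right_cancel (congrArg Subtype.val e :
        g * unip F w * g⁻¹ = g * unip F w' * g⁻¹)))

theorem orderOf_eq_of_dvd [Finite (PGL2 F)] (hf : 0 < f) (hq : Nat.card F = p ^ f) (x : PGL2 F)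
    (hx : p ∣ orderOf x) : orderOf x = p := by
  have hp : p.Prime := Fact.out
  set y := x ^ (orderOf x / p)
  have hy : orderOf y = p := by
    rw [orderOf_pow' _ (Nat.div_pos (Nat.le_of_dvd (orderOf_pos x) hx) hp.pos).ne',
      Nat.gcd_eq_right (Nat.div_dvd_of_dvd hx), Nat.div_div_self hx (orderOf_pos x).ne']
  have hxC : x ∈ centralizer ({y} : Set (PGL2 F)) :=
    mem_centralizer_singleton_iff.2 ((Commute.refl x).pow_right _).eq
  have h1 := card_centralizer_unip hf hq hy ▸ Subgroup.orderOf_dvd_natCard _ hxC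
  have h2 := pow_prime_eq_one hf hq (x := x) ⟨f, orderOf_dvd_iff_pow_eq_one.1 h1⟩
  exact ((Nat.dvd_prime hp).1 (orderOf_dvd_of_pow_eq_one h2)).resolve_left fun e =>
    hp.ne_one (Nat.dvd_one.1 (e ▸ hx))

theorem frame [Finite (PGL2 F)] (hp2 : p ≠ 2) (hf : 0 < f) (hq : Nat.card F = p ^ f) :
    PSLClass.Frame (PGL2 F) p f (p ^ f) ((p ^ f) ^ 2 - 1) 1 :=
  frame_of Fact.out hp2 hf rfl (pgl_card hq) (orderOf_eq_of_dvd hf hq) fun _ hx => card_centralizer_unip hf hq hx

theorem cnt_p [Finite (PGL2 F)] (hp2 : p ≠ 2) (hf : 0 < f) (hq : Nat.card F = p ^ f) :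
    cnt (PGL2 F) p = (p ^ f) ^ 2 - 1 := by
  have hp : p.Prime := Fact.out
  have Fr := frame (F := F) hp2 hf hq
  obtain ⟨P⟩ : Nonempty (Sylow p (PGL2 F)) := inferInstance
  obtain ⟨h, hN, hdiv, -⟩ := Fr.orbit_data P
  obtain ⟨hE, hn⟩ := Fr.arith P hN hdiv
  have h1 := Fr.count_pElem P
  rw [← hE, one_mul, hn] at h1
  have hset : {k : PGL2 F | k ^ p ^ f = 1} = insert 1 {k : PGL2 F | orderOf k = p} := by
    ext k
    simp only [Set.mem_setOf_eq, Set.mem_insert_iff]
    refine ⟨fun hk => or_iff_not_imp_left.2 fun hk1 => orderOf_eq_prime (pow_prime_eq_one hf hq ⟨f, hk⟩) hk1, ?_⟩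
    rintro (rfl | hk)
    · exact one_pow _
    · exact orderOf_dvd_iff_pow_eq_one.1 (hk ▸ dvd_pow_self p hf.ne')
  have h2 : Nat.card {k : PGL2 F // k ^ p ^ f = 1} = cnt (PGL2 F) p + 1 := by
    show Nat.card ↥{k : PGL2 F | k ^ p ^ f = 1} = Nat.card ↥{k : PGL2 F | orderOf k = p} + 1
    rw [Nat.card_coe_set_eq, Nat.card_coe_set_eq, hset,
      Set.ncard_insert_of_notMem (a := (1 : PGL2 F)) (s := {k : PGL2 F | orderOf k = p}) fun e => hp.ne_one (Eq.trans (Eq.symm e) orderOf_one)]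
  omega

theorem trace_zero_iff (h2 : (2 : F) ≠ 0) (g : GL2 F) :
    orderOf (ProjGenLinGroup.mk g) = 2 ↔ gm g 0 0 + gm g 1 1 = 0 := by
  have hiff : ∀ h : GL2 F, ProjGenLinGroup.mk h = 1 ↔ gm h 0 1 = 0 ∧ gm h 1 0 = 0 ∧ gm h 0 0 = gm h 1 1 := by
    intro h
    rw [ProjGenLinGroup.mk_eq_one, GeneralLinearGroup.center_eq_range_scalar]
    constructor
    · rintro ⟨u, rfl⟩
      simp [gm, GeneralLinearGroup.coe_scalar]
    · rintro ⟨h01, h10, heq⟩
      have hd : gm h 0 0 ≠ 0 := fun e => GL2C.det_gm_ne_zero h (by rw [det_fin_two, h01, e]; ring)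
      refine ⟨Units.mk0 _ hd, gm_injective ?_⟩
      ext i j
      fin_cases i <;> fin_cases j <;> simp [gm, GeneralLinearGroup.coe_scalar] at * <;>
        first | exact heq | exact h01.symm | exact h10.symm
  rw [orderOf_eq_prime_iff (p := 2), ← map_pow]
  simp only [ne_eq, hiff]
  rw [pow_two, gm_mul]
  simp only [Matrix.mul_apply, Fin.sum_univ_two]
  have hdet : gm g 0 0 * gm g 1 1 - gm g 0 1 * gm g 1 0 ≠ 0 := by
    rw [← det_fin_two]; exact GL2C.det_gm_ne_zero g
  constructor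
  · rintro ⟨⟨e01, e10, ediag⟩, hns⟩
    by_contra ht
    apply hns
    refine ⟨?_, ?_, ?_⟩
    · exact (mul_eq_zero.1 (show gm g 0 1 * (gm g 0 0 + gm g 1 1) = 0 by linear_combination e01)).resolve_right ht
    · exact (mul_eq_zero.1 (show gm g 1 0 * (gm g 0 0 + gm g 1 1) = 0 by linear_combination e10)).resolve_right ht
    · refine sub_eq_zero.1 ((mul_eq_zero.1
        (show (gm g 0 0 - gm g 1 1) * (gm g 0 0 + gm g 1 1) = 0 by linear_combination ediag)).resolve_right ht)
  · intro ht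
    refine ⟨⟨by linear_combination (gm g 0 1) * ht, by linear_combination (gm g 1 0) * ht,
      by linear_combination (gm g 0 0 - gm g 1 1) * ht⟩, fun ⟨h01, h10, heq⟩ => ?_⟩
    rw [h01, ← heq] at hdet
    rw [← heq, ← two_mul] at ht
    exact hdet (by rw [(mul_eq_zero.1 ht).resolve_left h2]; ring)

theorem card_trace_zero :
    Nat.card {g : GL2 F // gm g 0 0 + gm g 1 1 = 0} = Nat.card F ^ 3 - Nat.card F ^ 2 := by
  classical
  let e : {g : GL2 F // gm g 0 0 + gm g 1 1 = 0} ≃ {x : F × F × F // ¬ x.1 ^ 2 + x.2.1 * x.2.2 = 0} :=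
    { toFun := fun g => ⟨(gm g.1 0 0, gm g.1 0 1, gm g.1 1 0), fun e => GL2C.det_gm_ne_zero g.1 (by
        rw [det_fin_two]; linear_combination gm g.1 0 0 * g.2 - e)⟩
      invFun := fun x => ⟨GL2C.mk !![x.1.1, x.1.2.1; x.1.2.2, -x.1.1] (by
        rw [det_fin_two_of]; exact fun e => x.2 (by linear_combination -e)), by simp [GL2C.gm_mk]⟩
      left_inv := fun g => Subtype.ext (gm_injective (by
        rw [GL2C.gm_mk]
        ext i j
        fin_cases i <;> fin_cases j <;> simp [eq_neg_of_add_eq_zero_left g.2]))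
      right_inv := fun x => Subtype.ext (by simp [GL2C.gm_mk]) }
  let e0 : {x : F × F × F // x.1 ^ 2 + x.2.1 * x.2.2 = 0} ≃ F × F :=
    { toFun := fun x => if x.1.2.1 = 0 then (x.1.2.2, 0) else (x.1.1, x.1.2.1)
      invFun := fun y => if h : y.2 = 0 then ⟨(0, 0, y.1), by simp⟩
        else ⟨(y.1, y.2, -(y.1 ^ 2) / y.2), by field_simp; ring⟩
      left_inv := fun ⟨⟨a, b, c⟩, hx⟩ => by
        by_cases hb : b = 0
        · subst hb
          simp only [zero_mul, add_zero] at hx
          simp [pow_eq_zero_iff (n := 2) two_ne_zero |>.1 hx]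
        · simp only [if_neg hb, dif_neg hb]
          refine Subtype.ext (Prod.ext rfl (Prod.ext rfl ?_))
          simp only at hx ⊢
          field_simp
          linear_combination -hx
      right_inv := fun ⟨a, b⟩ => by
        by_cases hb : b = 0
        · simp [hb]
        · simp [hb] }
  rw [Nat.card_congr e, Nat.card_eq_fintype_card, Fintype.card_subtype_compl, ← Nat.card_eq_fintype_card,
    ← Nat.card_eq_fintype_card, Nat.card_congr e0, Nat.card_prod, Nat.card_prod]
  ring_nf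

theorem cnt_two (h2 : (2 : F) ≠ 0) : cnt (PGL2 F) 2 = Nat.card F ^ 2 := by
  classical
  have hq1 : 1 < Nat.card F := Finite.one_lt_card
  let t : Set (GL (Fin 2) F ⧸ center (GL (Fin 2) F)) := {k | orderOf k = 2}
  have h := Nat.card_congr (QuotientGroup.preimageMkEquivSubgroupProdSet (center (GL (Fin 2) F)) t)
  rw [Nat.card_prod, Linear.card_center_GL,
    Nat.card_congr (Equiv.subtypeEquivRight fun g : GL2 F => trace_zero_iff h2 g :
      ↥(QuotientGroup.mk ⁻¹' t) ≃ {g : GL2 F // gm g 0 0 + gm g 1 1 = 0}), card_trace_zero,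
    show Nat.card F ^ 3 - Nat.card F ^ 2 = (Nat.card F - 1) * Nat.card F ^ 2 by rw [Nat.sub_one_mul]; congr 1; ring] at h
  exact (Nat.eq_of_mul_eq_mul_left (by omega) h).symm

theorem values (hp2 : p ≠ 2) (hf : 0 < f) (hq : Nat.card F = p ^ f) : Values (PGL2 F) (p ^ f) := by
  haveI := finite_pgl (F := F)
  have hp : p.Prime := Fact.out
  have h2 : (2 : F) ≠ 0 := by
    intro h
    have h' : ((2 : ℕ) : F) = 0 := by exact_mod_cast h
    exact hp2 ((Nat.prime_dvd_prime_iff_eq hp Nat.prime_two).1 ((CharP.cast_eq_zero_iff F p 2).1 h'))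
  have hq1 : 1 < p ^ f := Nat.one_lt_pow hf.ne' hp.one_lt
  have hcp := cnt_p (F := F) hp2 hf hq
  have hc2 : cnt (PGL2 F) 2 = (p ^ f) ^ 2 := (cnt_two h2).trans (by rw [hq])
  refine ⟨⟨by positivity, 2, hc2.symm⟩, ⟨?_, p, hcp.symm⟩, ?_⟩
  · have := Nat.one_lt_pow two_ne_zero hq1
    omega
  rintro c ⟨hc0, k, rfl⟩
  rcases eq_or_ne k 1 with rfl | hk1
  · exact Or.inl cnt_one
  rcases eq_or_ne k p with rfl | hkp
  · exact Or.inr (Or.inl hcp)
  refine Or.inr (Or.inr (M11Nse.dvd_cnt fun g hg => ?_))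
  have hnd : ¬ p ∣ Nat.card (centralizer ({g} : Set (PGL2 F))) := fun hd => by
    obtain ⟨y, hy⟩ := exists_prime_orderOf_dvd_card' p hd
    have hy' : orderOf (y : PGL2 F) = p := by rw [Subgroup.orderOf_coe, hy]
    have h1 := pow_eq_one_of_comm (orderOf_eq_of_dvd hf hq) hp hy'
      (show Commute g (y : PGL2 F) from (mem_centralizer_singleton_iff.1 y.2).symm)
    rcases (Nat.dvd_prime hp).1 (hg ▸ orderOf_dvd_of_pow_eq_one h1) with h | h
    · exact hk1 h
    · exact hkp h
  refine (((Nat.Prime.coprime_iff_not_dvd hp).2 hnd).pow_left f).dvd_of_dvd_mul_left ?_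
  rw [card_mul_index, pgl_card hq]
  exact dvd_mul_right _ _

end CfsgLib.NsePGL2
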