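import Cfsg.Agent.NsePGL2.Count
import Cfsg.Agent.Perm.SharplyThreePGL

/-!
# The action on the Sylow subgroups is sharply triply transitive
-/

set_option autoImplicit false
set_option linter.unusedSectionVars false
set_option linter.style.haveILetI false

namespace CfsgLib.NsePGL2

open Subgroup MulAction

variable {G : Type*} [Group G] [Finite G] {p f q : ℕ}

theorem Data.nonempty_pgl (D : Data G p f q) [Fact p.Prime] :
    Nonempty (G ≃* Matrix.ProjGenLinGroup (Fin 2) (GaloisField p f)) := by
  classical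
  have Fr := D.frame
  obtain ⟨P⟩ : Nonempty (Sylow p G) := inferInstance
  set N := normalizer ((P : Subgroup G) : Set G) with hNdef
  obtain ⟨hindex, -⟩ := Fr.sylow_data P
  have hq3 : 3 ≤ q := by
    have h1 : p ≤ q := D.hq ▸ Nat.le_self_pow D.hf.ne' p
    have := D.hp.two_le
    have := D.hp2
    omega
  have hodd : Odd q := D.hq ▸ (D.hp.odd_of_ne_two D.hp2).pow
  haveI := Fintype.ofFinite G
  haveI := Fintype.ofFinite (G ⧸ N)
  have hα : Fintype.card (G ⧸ N) = q + 1 := by
    rw [← Nat.card_eq_fintype_card, ← index_eq_card, hindex]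
  set o : G ⧸ N := QuotientGroup.mk 1 with ho
  have hstab : ∀ g : G, g • o = o ↔ g ∈ N := fun g => by
    rw [ho, MulAction.Quotient.smul_mk, QuotientGroup.eq, smul_eq_mul, mul_one, mul_one, inv_mem_iff]
  -- non-trivial elements of `P` fix only `o`
  have hfix : ∀ u ∈ (P : Subgroup G), u ≠ 1 → ∀ x : G ⧸ N, u • x = x → x = o := by
    intro u hu hu1 x hx
    induction x using QuotientGroup.induction_on with
    | H g =>
      rw [MulAction.Quotient.smul_mk, QuotientGroup.eq, smul_eq_mul] at hx
      have hm : g⁻¹ * u * g ∈ N := inv_mem_iff.1 (by simpa [mul_assoc] using hx)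
      have hk := PSLClass.fib_conj g⁻¹
        (⟨hu1, Fr.pow_q P hu, Fr.C_eq P hu hu1⟩ : u ≠ 1 ∧ u ^ q = 1 ∧ centralizer ({u} : Set G) = P)
      rw [inv_inv] at hk
      have hp' : IsPGroup p (zpowers (g⁻¹ * u * g)) := by
        refine IsPGroup.iff_card.2 ?_
        obtain ⟨i, -, hi⟩ := (Nat.dvd_prime_pow D.hp).1 (D.hq ▸ orderOf_dvd_of_pow_eq_one hk.2.1)
        exact ⟨i, by rw [Nat.card_zpowers, hi]⟩
      have hmP : g⁻¹ * u * g ∈ (P : Subgroup G) :=
        (hp'.inf_normalizer_sylow P ▸ (⟨mem_zpowers _, hm⟩ : g⁻¹ * u * g ∈ zpowers (g⁻¹ * u * g) ⊓ N) :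
          g⁻¹ * u * g ∈ zpowers (g⁻¹ * u * g) ⊓ (P : Subgroup G)).2
      have hmap := hk.2.2.symm.trans (Fr.C_eq P hmP hk.1)
      have hgN : g⁻¹ ∈ N := mem_normalizer_iff.2 fun v => by
        conv_rhs => rw [← hmap, Subgroup.mem_map_equiv, MulAut.conj_symm_apply]
        simp [mul_assoc]
      rw [ho, QuotientGroup.eq, mul_one]
      exact hgN
  -- `P` is regular on the other points
  have hP : ∀ b : G ⧸ N, b ≠ o →
      Function.Injective (fun u : (P : Subgroup G) => (u : G) • b) ∧
      ∀ c : G ⧸ N, c ≠ o → ∃ u ∈ (P : Subgroup G), u • b = c := by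
    intro b hb
    have hinj : Function.Injective (fun u : (P : Subgroup G) => (u : G) • b) := fun u v e => by
      by_contra hne
      exact hb (hfix _ (mul_mem (inv_mem v.2) u.2) (fun h => hne (Subtype.ext (inv_mul_eq_one.1 h).symm)) b
        (by rw [mul_smul, inv_smul_eq_iff]; exact e))
    refine ⟨hinj, fun c hc => ?_⟩
    let φ : ↥(P : Subgroup G) → {x : G ⧸ N // x ≠ o} := fun u =>
      ⟨(u : G) • b, fun h => hb (smul_left_cancel (u : G) (h.trans ((hstab u).2 (le_normalizer u.2)).symm))⟩
    have hb' : Function.Bijective φ := (Fintype.bijective_iff_injective_and_card φ).2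
      ⟨fun u v e => hinj (congrArg Subtype.val e), by
        rw [← Nat.card_eq_fintype_card, Fr.card_sylow P, Fintype.card_subtype_compl, Fintype.card_subtype_eq, hα,
          Nat.add_sub_cancel]⟩
    obtain ⟨u, hu⟩ := hb'.2 ⟨c, hc⟩
    exact ⟨u, u.2, congrArg Subtype.val hu⟩
  have hthree : ∀ (g : G) (a b c : G ⧸ N), a ≠ b → a ≠ c → b ≠ c → g • a = a → g • b = b → g • c = c → g = 1 := by
    intro g a b c hab hac hbc ga gb gc
    obtain ⟨h, hh⟩ := MulAction.exists_smul_eq G a o
    have key : ∀ x : G ⧸ N, g • x = x → (h * g * h⁻¹) • (h • x) = h • x := fun x e => by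
      rw [mul_smul, mul_smul, inv_smul_smul, e]
    set g' := h * g * h⁻¹ with hg'
    have hgo : g' • o = o := hh ▸ key a ga
    have hb0 : h • b ≠ o := fun e => hab (smul_left_cancel h (e.trans hh.symm)).symm
    have hc0 : h • c ≠ o := fun e => hac (smul_left_cancel h (e.trans hh.symm)).symm
    obtain ⟨u, hu, hubc⟩ := (hP _ hb0).2 _ hc0
    have hu1 : u ≠ 1 := fun e => hbc (smul_left_cancel h (by rw [← hubc, e, one_smul]))
    have hgN : g' ∈ N := (hstab g').1 hgo
    have hv : g' * u * g'⁻¹ ∈ (P : Subgroup G) := (mem_normalizer_iff.1 hgN u).1 hu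
    have hvu : g' * u * g'⁻¹ = u := congrArg Subtype.val ((hP _ hb0).1
      (show ((⟨_, hv⟩ : (P : Subgroup G)) : G) • (h • b) = ((⟨u, hu⟩ : (P : Subgroup G)) : G) • (h • b) by
        show (g' * u * g'⁻¹) • (h • b) = u • (h • b)
        rw [mul_smul, mul_smul, inv_smul_eq_iff.2 (key b gb).symm, hubc, key c gc]))
    have hgP : g' ∈ (P : Subgroup G) := by
      rw [← Fr.C_eq P hu hu1, mem_centralizer_singleton_iff]
      exact mul_inv_eq_iff_eq_mul.1 hvu
    by_contra hne
    exact hb0 (hfix g' hgP (fun e => hne (conj_eq_one_iff.1 (hg' ▸ e))) _ (key b gb))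
  have hsharp : ∀ x : Fin 3 ↪ G ⧸ N, stabilizer G x = ⊥ := by
    intro x
    rw [eq_bot_iff]
    intro g hg
    have hg' : ∀ i, g • x i = x i := fun i => congrArg (fun e : Fin 3 ↪ G ⧸ N => e i) (mem_stabilizer_iff.1 hg)
    exact mem_bot.2 (hthree g (x 0) (x 1) (x 2) (x.injective.ne (by decide)) (x.injective.ne (by decide))
      (x.injective.ne (by decide)) (hg' 0) (hg' 1) (hg' 2))
  obtain ⟨x₀⟩ : Nonempty (Fin 3 ↪ G ⧸ N) := Function.Embedding.nonempty_of_card_le (by rw [Fintype.card_fin, hα]; omega)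
  have hinj3 : Function.Injective (fun g : G => g • x₀) := fun g g' e => by
    have : g'⁻¹ * g ∈ stabilizer G x₀ := by
      rw [mem_stabilizer_iff, mul_smul, inv_smul_eq_iff]
      exact e
    rw [hsharp x₀, mem_bot, inv_mul_eq_one] at this
    exact this.symm
  have h3 : IsMultiplyPretransitive G (G ⧸ N) 3 := by
    have hb := (Fintype.bijective_iff_injective_and_card (fun g : G => g • x₀)).2 ⟨hinj3, by
      rw [← Nat.card_eq_fintype_card, D.card, Fintype.card_embedding_eq, Fintype.card_fin, hα,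
        Nat.descFactorial_succ, Nat.descFactorial_succ, Nat.descFactorial_succ, Nat.descFactorial_zero,
        Nat.sub_zero, Nat.add_sub_cancel, show q + 1 - 2 = q - 1 by omega,
        show q ^ 2 - 1 = (q + 1) * (q - 1) from (Nat.sq_sub_sq q 1)]
      ring⟩
    refine ⟨fun x y => ?_⟩
    obtain ⟨g, rfl⟩ := hb.2 x
    obtain ⟨g', rfl⟩ := hb.2 y
    exact ⟨g' * g⁻¹, by rw [mul_smul, inv_smul_smul]⟩
  haveI : FaithfulSMul G (G ⧸ N) := ⟨fun {g g'} h => hinj3 (Function.Embedding.ext fun i => h _)⟩
  have h2 : IsMultiplyPretransitive G (G ⧸ N) 2 :=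
    haveI := h3
    isMultiplyPretransitive_of_le' (α := G ⧸ N) (n := 3) (by norm_num) (by
      rw [ENat.card_eq_coe_fintype_card, hα]; exact_mod_cast (by omega : 3 ≤ q + 1))
  have hthird : ∀ a b : G ⧸ N, ∃ c, c ≠ a ∧ c ≠ b := fun a b => by
    by_contra hno
    push Not at hno
    have hsub : (Finset.univ : Finset (G ⧸ N)) ⊆ {a, b} := fun c _ => by
      rcases eq_or_ne c a with h | h
      · simp [h]
      · simp [hno c h]
    have := (Finset.card_le_card hsub).trans Finset.card_le_two
    rw [Finset.card_univ, hα] at this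
    omega
  -- involutions
  set I : Finset G := Finset.univ.filter fun g => orderOf g = 2 with hI
  have hIcard : I.card = q ^ 2 := by
    rw [← D.cnt2, cnt, Nat.card_eq_fintype_card, Fintype.card_subtype]
  have hsq : ∀ i ∈ I, i * i = 1 := fun i hi => by
    rw [← sq, ← (Finset.mem_filter.1 hi).2, pow_orderOf_eq_one]
  have hfixI : ∀ a : G ⧸ N, (I.filter fun i => i • a = a).card ≤ q := by
    intro a
    have hsub : (I.filter fun i => i • a = a) ⊆
        (Finset.univ.erase a).biUnion fun y => I.filter fun i => i • a = a ∧ i • y = y := by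
      intro i hi
      obtain ⟨hiI, hia⟩ := Finset.mem_filter.1 hi
      let σ : Equiv.Perm {y : G ⧸ N // y ≠ a} :=
        (MulAction.toPerm i).subtypePerm fun y => by
          show i • y ≠ a ↔ y ≠ a
          rw [not_iff_not]
          exact ⟨fun e => smul_left_cancel i (e.trans hia.symm), fun e => e ▸ hia⟩
      obtain ⟨y, hy⟩ := Equiv.Perm.exists_fixed_point_of_prime (p := 2) (n := 1) (σ := σ)
        (by
          rw [Fintype.card_subtype_compl, Fintype.card_subtype_eq, hα, Nat.add_sub_cancel]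
          exact fun h => Nat.not_even_iff_odd.2 hodd (even_iff_two_dvd.2 h))
        (by
          rw [pow_one, sq]
          ext y
          show i • i • (y : G ⧸ N) = (y : G ⧸ N)
          rw [smul_smul, hsq i hiI, one_smul])
      exact Finset.mem_biUnion.2 ⟨y, Finset.mem_erase.2 ⟨y.2, Finset.mem_univ _⟩,
        Finset.mem_filter.2 ⟨hiI, hia, congrArg Subtype.val hy⟩⟩
    refine (Finset.card_le_card hsub).trans ((Finset.card_biUnion_le_card_mul _ _ 1 fun y hy => ?_).trans ?_)
    · obtain ⟨c, hca, hcy⟩ := hthird a y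
      refine le_trans ?_ (SharplyThree.card_involution_le h3 h2 hsharp (Finset.mem_erase.1 hy).1.symm hca.symm hcy.symm)
      rw [Nat.card_eq_fintype_card, Fintype.card_subtype]
      refine Finset.card_le_card fun i hi => ?_
      obtain ⟨hiI, h1, h2'⟩ := Finset.mem_filter.1 hi
      exact Finset.mem_filter.2 ⟨Finset.mem_univ _, by rw [sq]; exact hsq i hiI,
        fun e => by simp [hI, e] at hiI, h1, h2'⟩
    · rw [Finset.card_erase_of_mem (Finset.mem_univ a), Finset.card_univ, hα, Nat.add_sub_cancel, mul_one]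
  have hswap_le : ∀ a b : G ⧸ N, a ≠ b →
      (Finset.univ.filter fun g : G => g • a = b ∧ g • b = a).card ≤ q - 1 := by
    intro a b hab
    obtain ⟨c, hca, hcb⟩ := hthird a b
    have hle : (Finset.univ.filter fun g : G => g • a = b ∧ g • b = a).card ≤
        (Finset.univ \ ({a, b} : Finset (G ⧸ N))).card := by
      refine Finset.card_le_card_of_injOn (fun g => g • c) (fun g hg => ?_) fun g hg g' hg' e => ?_
      · obtain ⟨-, ga, gb⟩ := Finset.mem_filter.1 hg
        refine Finset.mem_coe.2 (Finset.mem_sdiff.2 ⟨Finset.mem_univ _, fun hm => ?_⟩)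
        rcases Finset.mem_insert.1 hm with h | h
        · exact hcb (smul_left_cancel g (h.trans gb.symm))
        · exact hca (smul_left_cancel g ((Finset.mem_singleton.1 h).trans ga.symm))
      · obtain ⟨-, ga, gb⟩ := Finset.mem_filter.1 hg
        obtain ⟨-, ga', gb'⟩ := Finset.mem_filter.1 hg'
        refine (inv_mul_eq_one.1 (hthree (g'⁻¹ * g) a b c hab hca.symm hcb.symm ?_ ?_ ?_)).symm <;>
          rw [mul_smul, inv_smul_eq_iff]
        · rw [ga, ga']
        · rw [gb, gb']
        · exact e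
    rw [Finset.card_sdiff_of_subset (Finset.subset_univ _), Finset.card_univ, hα, Finset.card_pair hab] at hle
    omega
  have hswap : ∀ (a b : G ⧸ N) (g : G), a ≠ b → g • a = b → g • b = a → g * g = 1 := by
    intro a b g hab ga gb
    have hsub : ∀ y, (I.filter fun i => i • a = y) ⊆ Finset.univ.filter fun g : G => g • a = y ∧ g • y = a := by
      intro y i hi
      obtain ⟨hiI, hia⟩ := Finset.mem_filter.1 hi
      refine Finset.mem_filter.2 ⟨Finset.mem_univ _, hia, ?_⟩
      rw [← hia, smul_smul, hsq i hiI, one_smul]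
    have hle : ∀ y ∈ Finset.univ.erase a, (I.filter fun i => i • a = y).card ≤ q - 1 := fun y hy =>
      (Finset.card_le_card (hsub y)).trans (hswap_le a y (Finset.mem_erase.1 hy).1.symm)
    have hsum := Finset.sum_le_sum hle
    have htot : (I.filter fun i => i • a = a).card + ∑ y ∈ Finset.univ.erase a, (I.filter fun i => i • a = y).card
        = q ^ 2 := by
      rw [Finset.add_sum_erase _ (fun y => (I.filter fun i => i • a = y).card) (Finset.mem_univ a), ← hIcard]
      exact (Finset.card_eq_sum_card_fiberwise (f := fun i => i • a) (t := Finset.univ) fun _ _ => Finset.mem_univ _).symm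
    have heq : ∑ y ∈ Finset.univ.erase a, (I.filter fun i => i • a = y).card = ∑ y ∈ Finset.univ.erase a, (q - 1) := by
      refine le_antisymm hsum ?_
      have := hfixI a
      rw [Finset.sum_const, Finset.card_erase_of_mem (Finset.mem_univ a), Finset.card_univ, hα, Nat.add_sub_cancel,
        smul_eq_mul, Nat.mul_sub_one, ← sq]
      omega
    have hb := (Finset.sum_eq_sum_iff_of_le hle).1 heq b (Finset.mem_erase.2 ⟨hab.symm, Finset.mem_univ _⟩)
    have hfin := Finset.eq_of_subset_of_card_le (hsub b) (by rw [hb]; exact hswap_le a b hab)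
    have hgI : g ∈ I.filter fun i => i • a = b := hfin ▸ Finset.mem_filter.2 ⟨Finset.mem_univ _, ga, gb⟩
    exact hsq g (Finset.mem_filter.1 hgI).1
  -- three points and the swap
  have hab : x₀ 0 ≠ x₀ 1 := x₀.injective.ne (by decide)
  have hac : x₀ 0 ≠ x₀ 2 := x₀.injective.ne (by decide)
  have hbc : x₀ 1 ≠ x₀ 2 := x₀.injective.ne (by decide)
  obtain ⟨s, hsa, hsb, hsc⟩ := SharplyThree.exists_swap h3 hab hac hbc
  refine SharplyThree.nonempty_mulEquiv_pgl h3 hsharp hab hac hbc hsa hsb hsc (fun h hh => ?_) (GaloisField p f)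
    (by rw [GaloisField.card p f D.hf.ne', ← D.hq, hα])
  have hss : s * s = 1 := hswap _ _ s hab hsa hsb
  have hsh : s * h * (s * h) = 1 := hswap _ _ (s * h) hab
    (by rw [mul_smul, mem_stabilizer_iff.1 hh.1, hsa]) (by rw [mul_smul, mem_stabilizer_iff.1 hh.2, hsb])
  rw [inv_eq_of_mul_eq_one_right hss]
  exact eq_inv_of_mul_eq_one_left (by rw [mul_assoc _ s h]; exact hsh)

end CfsgLib.NsePGL2
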